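import Groth.Prelude.Def_FDesc
import Groth.Agent.FlatOver.Basic
import Groth.Agent.QCohBase.Finite
import Mathlib.RingTheory.Flat.FaithfullyFlat.Basic
import Mathlib.RingTheory.Nakayama

/-!
# Quasi-flat morphisms: generizations lift
-/

set_option autoImplicit false
set_option backward.isDefEq.respectTransparency.types false
universe u

open CategoryTheory AlgebraicGeometry TensorProduct

namespace Groth.Agent.QuasiFlatLib

/-- Going down for a local homomorphism admitting a nonzero finite module flat over the base. -/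
theorem exists_prime_comap {R S : Type u} [CommRing R] [CommRing S] [IsLocalRing R] [IsLocalRing S]
    [Algebra R S] [IsLocalHom (algebraMap R S)] (M : Type u) [AddCommGroup M] [Module R M]
    [Module S M] [IsScalarTower R S M] [Module.Finite S M] [Nontrivial M] [Module.Flat R M]
    (q : PrimeSpectrum R) : ∃ P : PrimeSpectrum S, PrimeSpectrum.comap (algebraMap R S) P = q := by
  have hff : Module.FaithfullyFlat R M := by
    refine ⟨fun {m} hm htop => ?_⟩
    rw [IsLocalRing.eq_maximalIdeal hm] at htop
    have hle : ((IsLocalRing.maximalIdeal R).map (algebraMap R S)) • (⊤ : Submodule S M) = ⊤ := by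
      rw [eq_top_iff]
      intro x _
      have hx : x ∈ IsLocalRing.maximalIdeal R • (⊤ : Submodule R M) := by rw [htop]; trivial
      refine Submodule.smul_induction_on hx (fun r hr n _ => ?_) fun a b ha hb => add_mem ha hb
      rw [← algebraMap_smul S r n]
      exact Submodule.smul_mem_smul (Ideal.mem_map_of_mem _ hr) trivial
    have : (⊤ : Submodule S M) = ⊥ := by
      refine Submodule.eq_bot_of_le_smul_of_le_jacobson_bot (IsLocalRing.maximalIdeal S) _
        Module.Finite.fg_top ?_ (IsLocalRing.maximalIdeal_le_jacobson _)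
      refine hle.ge.trans (Submodule.smul_mono_left (Ideal.map_le_iff_le_comap.2 fun r hr => ?_))
      exact fun hu => hr ((isUnit_map_iff (algebraMap R S) r).1 hu)
    exact top_ne_bot this
  rw [← Set.mem_range, PrimeSpectrum.mem_range_comap_iff]
  refine le_antisymm (fun s hs => ?_) Ideal.le_comap_map
  have hs' : ∀ m : M, s • m ∈ q.asIdeal • (⊤ : Submodule R M) := by
    intro m
    have : ∀ (b : S), b ∈ q.asIdeal.map (algebraMap R S) →
        ∀ m : M, b • m ∈ q.asIdeal • (⊤ : Submodule R M) := by
      intro b hb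
      induction hb using Submodule.span_induction with
      | mem b hb =>
          obtain ⟨r, hr, rfl⟩ := hb
          intro m
          rw [algebraMap_smul]
          exact Submodule.smul_mem_smul hr trivial
      | zero => intro m; simp
      | add a b _ _ ha hb => intro m; rw [add_smul]; exact add_mem (ha m) (hb m)
      | smul c a _ ha => intro m; rw [smul_eq_mul, mul_comm, mul_smul]; exact ha _
    rw [← algebraMap_smul S s m]
    exact this _ hs m
  let μ : (R ⧸ q.asIdeal) →ₗ[R] R ⧸ q.asIdeal := LinearMap.lsmul R _ s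
  have h0 : μ.rTensor M = 0 := by
    refine TensorProduct.ext' fun a m => ?_
    show (s • a) ⊗ₜ[R] m = 0
    rw [smul_tmul]
    have : ∀ n ∈ q.asIdeal • (⊤ : Submodule R M), a ⊗ₜ[R] n = 0 := by
      intro n hn
      refine Submodule.smul_induction_on hn (fun r hr n _ => ?_)
        fun x y hx hy => by rw [tmul_add, hx, hy, add_zero]
      rw [← smul_tmul]
      obtain ⟨a, rfl⟩ := Ideal.Quotient.mk_surjective a
      rw [show r • (Ideal.Quotient.mk q.asIdeal a) = Ideal.Quotient.mk q.asIdeal (r * a) from rfl,
        Ideal.Quotient.eq_zero_iff_mem.2 (Ideal.mul_mem_right _ _ hr), zero_tmul]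
    exact this _ (hs' m)
  have hμ : μ = 0 := (Module.FaithfullyFlat.zero_iff_rTensor_zero R M μ).2 h0
  have h1 : μ (Ideal.Quotient.mk q.asIdeal 1) = 0 := by rw [hμ]; rfl
  rw [show μ (Ideal.Quotient.mk q.asIdeal 1) = Ideal.Quotient.mk q.asIdeal (s * 1) from rfl,
    mul_one, Ideal.Quotient.eq_zero_iff_mem] at h1
  exact h1

/-- Stalks of a coherent module are finite. -/
theorem finite_stalk {X : Scheme.{u}} (M : X.Modules) (hM : Coh.IsCoh M) (x : X) :
    Module.Finite (X.presheaf.stalk x) (M.presheaf.stalk x) := by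
  have hq : M.IsQuasicoherent := hM.1
  obtain ⟨_, ⟨U, hU, rfl⟩, hx, -⟩ :=
    X.isBasis_affineOpens.exists_subset_of_mem_open (Set.mem_univ x) isOpen_univ
  letI := Groth.Agent.FlatOver.germModule M x hx
  have : Module.Finite Γ(X, U) Γ(M, U) := Groth.Agent.QCohBase.finite_sections M hM.2 hU
  letI : Algebra Γ(X, U) (X.presheaf.stalk x) := (X.presheaf.germ U x hx).hom.toAlgebra
  have : IsLocalization.AtPrime (X.presheaf.stalk x) (hU.primeIdealOf ⟨x, hx⟩).asIdeal :=
    hU.isLocalization_stalk ⟨x, hx⟩
  have : IsScalarTower Γ(X, U) (X.presheaf.stalk x) (M.presheaf.stalk x) :=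
    .of_algebraMap_smul fun r z => rfl
  have := Groth.Agent.FlatOver.isLocalizedModule_germₗ M hU x hx
  exact Module.Finite.of_isLocalizedModule (hU.primeIdealOf ⟨x, hx⟩).asIdeal.primeCompl
    (Groth.Agent.FlatOver.germₗ M x hx)

/-- Generizations lift along quasi-flat morphisms. -/
theorem generalizingMap {X Y : Scheme.{u}} {f : X ⟶ Y} (hf : FDesc.IsQuasiFlat f) :
    GeneralizingMap f.base := by
  obtain ⟨M, hM, hflat, hnt⟩ := hf
  intro x y hy
  have hy' : y ∈ Set.range (Y.fromSpecStalk (f x)) := by
    rw [Scheme.range_fromSpecStalk]; exact hy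
  obtain ⟨q, rfl⟩ := hy'
  letI := (f.stalkMap x).hom.toAlgebra
  letI := FlatMod.moduleStalkOver f M x
  have : IsLocalHom (algebraMap (Y.presheaf.stalk (f x)) (X.presheaf.stalk x)) :=
    inferInstanceAs (IsLocalHom (f.stalkMap x).hom)
  have : IsScalarTower (Y.presheaf.stalk (f x)) (X.presheaf.stalk x) (M.presheaf.stalk x) :=
    .of_algebraMap_smul fun r z => rfl
  have := finite_stalk M hM x
  have := hnt x
  have : Module.Flat (Y.presheaf.stalk (f x)) (M.presheaf.stalk x) := hflat x
  obtain ⟨P, hP⟩ := exists_prime_comap (S := X.presheaf.stalk x) (M.presheaf.stalk x) q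
  refine ⟨X.fromSpecStalk x P, ?_, ?_⟩
  · show X.fromSpecStalk x P ⤳ x
    have : X.fromSpecStalk x P ∈ Set.range (X.fromSpecStalk x) := ⟨P, rfl⟩
    rwa [Scheme.range_fromSpecStalk] at this
  · rw [← Scheme.Hom.comp_apply, ← Scheme.SpecMap_stalkMap_fromSpecStalk, Scheme.Hom.comp_apply]
    exact congrArg _ hP

end Groth.Agent.QuasiFlatLib
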